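import Cfsg.Agent.Abg.B7
import Cfsg.Agent.Bu.Base3

/-!
# The shape `ND` of the quotients of `GL₂(q)` and `GU₂(q)`
-/

set_option autoImplicit false
set_option linter.unusedSectionVars false

universe u v

namespace CA.Abg.Uni

open Cfsg Subgroup CA.Dih CA.FG CA.Bu Cfsg.Agent.Unit
open CA.Br hiding tt uu Zt Tt Yt Ht Y1t Xp Xm Ut cj tt_mul uu_mul tt_Zt uu_Tt tt_comm tt_conj mem_Xp mem_Xm mem_Tt' mem_Zt'
  mem_Ht'

variable {K : Type v} [Field K] [StarRing K] {q : ℕ} {G : Type u} [Group G] {φ : U2 K →* G} {g m : U2 K}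

local notation "dt" => Matrix.GeneralLinearGroup.det

/-- `φ` is onto -/
structure BU0 (φ : U2 K →* G) (q : ℕ) : Prop extends UK φ q where
  sur : Function.Surjective φ

namespace BU0

variable [Fintype G] (h : BU0 φ q)
include h

theorem mem_C {x : G} : x ∈ φ.range ↔ x * tt φ = tt φ * x := by
  obtain ⟨g, rfl⟩ := h.sur x
  exact iff_of_true ⟨g, rfl⟩ (tt_comm ⟨g, rfl⟩).symm

theorem rr_aux {x i : G} (hx : tt φ ∈ zpowers x) (x2 : x * x ≠ 1) (hi : i ∈ invs G) (hi' : i * x ∈ invs G) :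
    ∃ m m' : U2 K, φ m = i ∧ φ m' = i * x ∧ m.1 0 0 + m.1 1 1 = 0 ∧ dt m.1 = -1 ∧ m'.1 0 0 + m'.1 1 1 = 0 ∧
      dt m'.1 = -1 := by
  obtain ⟨i2, i1⟩ := mem_invs.1 hi
  obtain ⟨j2, j1⟩ := mem_invs.1 hi'
  have xC : x ∈ φ.range := h.mem_C.2 (by obtain ⟨k, hk⟩ := hx; rw [← hk]; exact (Commute.self_zpow x k).eq)
  have iC : i ∈ φ.range := h.mem_C.2 (mul_inv_eq_iff_eq_mul.1 ((CA.GW.inv_of_mem_zpowers (by
    rw [inv_eq_of_mul_eq_one_right i2, eq_inv_iff_mul_eq_one, mul_assoc, j2]) hx).trans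
      (inv_eq_of_mul_eq_one_right tt_mul)))
  obtain ⟨m, k1, k2, k3⟩ := h.toUK.J_of iC i2 i1 fun k => x2 (by
    rw [k, mul_assoc, ← mul_assoc x, ← tt_comm xC, ← mul_assoc, ← mul_assoc, tt_mul, one_mul] at j2; exact j2)
  obtain ⟨m', l1, l2, l3⟩ := h.toUK.J_of (mul_mem iC xC) j2 j1 fun k => x2 (by
    rw [eq_inv_mul_of_mul_eq k, inv_eq_of_mul_eq_one_right i2, mul_assoc, ← mul_assoc (tt φ), tt_comm iC,
      mul_assoc, tt_mul, mul_one, i2])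
  exact ⟨m, m', k1, l1, k2, k3, l2, l3⟩

theorem rr_zero {x : G} (hx : tt φ ∈ zpowers x) (x2 : x * x ≠ 1) (k : ∀ g : U2 K, dt g.1 = 1 → φ g ≠ x) :
    rr x = 0 := by
  classical
  rw [rr, Finset.card_eq_zero, Finset.filter_eq_empty_iff]
  intro i hi hi'
  obtain ⟨m, m', k1, l1, -, k3, -, l3⟩ := h.rr_aux hx x2 hi hi'
  exact k (m⁻¹ * m') (by rw [Subgroup.coe_mul, Subgroup.coe_inv, map_mul, map_inv, k3, l3, inv_mul_cancel])
    (by rw [map_mul, map_inv, k1, l1]; group)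

theorem rr_eq (hx : tt φ ∈ zpowers (φ g)) (x2 : φ g * φ g ≠ 1) (d : dt g.1 = 1) {A : Type*} (f : A → K × K × K)
    (hf : Function.Injective f) (hA : ∀ a b c : K, (a, b, c) ∈ Set.range f ↔
      (star a = -a ∧ star b = b ∧ star c = c) ∧ a * a + b * c = 1 ∧
        a * (g.1 0 0 - g.1 1 1) + b * g.1 1 0 + c * g.1 0 1 = 0) : rr (φ g) = Nat.card A := by
  classical
  have p : ∀ x, (star (f x).1 = -(f x).1 ∧ star (f x).2.1 = (f x).2.1 ∧ star (f x).2.2 = (f x).2.2) ∧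
    (f x).1 * (f x).1 + (f x).2.1 * (f x).2.2 = 1 ∧ _ := fun x => (hA _ _ _).1 ⟨x, rfl⟩
  let M0 : A → GL (Fin 2) K := fun x => mk2 (f x).1 (f x).2.1 (f x).2.2 (-(f x).1) fun k =>
    one_ne_zero (by linear_combination -k - (p x).2.1)
  have dM : ∀ x, dt (M0 x) = -1 := fun x => Units.ext (by simp [det_ent, M0]; linear_combination -(p x).2.1)
  let M : A → U2 K := fun x => ⟨M0 x, mem_U2'.2 (by rw [dM]; simp [M0, (p x).1])⟩
  have tM : ∀ x, (M x * g).1 0 0 + (M x * g).1 1 1 = 0 := fun x => by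
    simp [mul_ent, M, M0]; linear_combination (p x).2.2
  rw [rr, ← Nat.card_eq_finsetCard]
  refine (Nat.card_congr (Equiv.ofBijective (fun x => ⟨φ (M x), Finset.mem_filter.2
    ⟨h.toUK.J_inv (by simp [M, M0]) (dM x),
    map_mul φ _ _ ▸ h.toUK.J_inv (tM x) (by rw [Subgroup.coe_mul, map_mul, dM, d, mul_one])⟩⟩)
      ⟨fun x y k => hf ?_, fun ⟨i, hi⟩ => ?_⟩)).symm
  · have k := congrArg Subtype.val (h.toUK.eq_of_det (congrArg Subtype.val k) ((dM x).trans (dM y).symm))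
    exact Prod.ext (congrArg (fun g : GL (Fin 2) K => g 0 0) k) (Prod.ext (congrArg (fun g : GL (Fin 2) K => g 0 1) k)
      (congrArg (fun g : GL (Fin 2) K => g 1 0) k))
  · obtain ⟨m, m', rfl, l1, k2, k3, l2, l3⟩ := h.rr_aux hx x2 (Finset.mem_filter.1 hi).1 (Finset.mem_filter.1 hi).2
    obtain rfl := h.toUK.eq_of_det (l1.trans (map_mul φ _ _).symm) (by
      rw [Subgroup.coe_mul, map_mul, k3, l3, d, mul_one])
    have k4 : m.1 1 1 = - m.1 0 0 := by linear_combination k2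
    have k5 : m.1 0 0 * m.1 1 1 - m.1 0 1 * m.1 1 0 = -1 := by rw [← det_ent, k3]; rfl
    rw [Subgroup.coe_mul, mul_ent, mul_ent, k4] at l2
    obtain ⟨n1, n2, n3, -⟩ := neg_ent m.2 k3
    obtain ⟨x, hx⟩ := (hA (m.1 0 0) (m.1 0 1) (m.1 1 0)).2 ⟨⟨n1, n2, n3⟩, by rw [k4] at k5; linear_combination -k5,
      by linear_combination l2⟩
    exact ⟨x, Subtype.ext (congrArg φ (Subtype.ext (gl_ext (by simp [M, M0, hx]) (by simp [M, M0, hx])
      (by simp [M, M0, hx]) (by simp [M, M0, hx, k4]))))⟩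

theorem rrt : rr (tt φ) = q * (q - 1) := by
  rw [← h.toUK.relT, ← h.toUK.cent_u, inf_relIndex_left, ← CA.GW.ncard_conj, rr, ← Set.ncard_coe_finset]
  congr 1
  ext i
  simp only [Finset.coe_filter, mem_invs, Set.mem_setOf_eq]
  refine ⟨fun ⟨⟨i2, i1⟩, j2, j1⟩ => h.toUK.inv_cj (h.mem_C.2 ?_) i2 i1 fun k => j1 (by rw [k, tt_mul]), ?_⟩
  · rw [eq_inv_of_mul_eq_one_left j2, mul_inv_rev, inv_eq_of_mul_eq_one_right i2, inv_eq_of_mul_eq_one_right tt_mul]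
  · rintro ⟨c, hc, rfl⟩
    have u1 : uu φ ≠ 1 := fun k => h.toUK.uZ (k ▸ one_mem _)
    rw [← tt_conj hc, ← conj_mul', ← conj_mul', ← conj_mul', uu_mul, mul_assoc (uu φ), ← mul_assoc (tt φ),
      tt_comm (c := uu φ) ⟨_, rfl⟩, mul_assoc (uu φ), tt_mul, mul_one, mul_one, uu_mul]
    simp only [mul_one, mul_inv_cancel, ne_eq, conj_eq_one_iff, u1, not_false_eq_true, true_and]
    exact fun k => h.toUK.uZ (by rw [eq_inv_of_mul_eq_one_left k]; exact inv_mem tt_Zt)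

theorem zx {s : K} (hs : star s = -s) (s0 : s ≠ 0) {z : G} (hz : z ∈ Zt φ) (ht : tt φ ∈ zpowers z) :
    tt φ ∈ zpowers (z * φ (xU s hs)) ∧ z * φ (xU s hs) * (z * φ (xU s hs)) ≠ 1 := by
  have c : Commute z (φ (xU s hs)) := cen hz ⟨_, rfl⟩
  refine ⟨?_, fun k => ?_⟩
  · obtain ⟨j, hj⟩ := h.odd
    have : (z * φ (xU s hs)) ^ q = z ^ q := by
      rw [c.mul_pow, ← map_pow, h.toUK.xU_pow, map_one, mul_one]
    obtain ⟨k, hk⟩ := ht
    have e : (z ^ q) ^ k = tt φ := by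
      rw [← zpow_natCast, zpow_comm, show z ^ k = tt φ from hk, zpow_natCast, hj, pow_succ, pow_mul, sq, tt_mul,
        one_pow, one_mul]
    exact e ▸ this ▸ zpow_mem (pow_mem (mem_zpowers _) _) _
  · rw [c.symm.mul_mul_mul_comm, ← map_mul, xU_add] at k
    have : φ (xU (s + s) _) ∈ Zt φ ⊓ Xp φ := ⟨by
      rw [eq_inv_of_mul_eq_one_right k]; exact (Zt φ).inv_mem (mul_mem hz hz), mem_Xp.2 ⟨_, _, rfl⟩⟩
    rw [h.toUK.ZX] at this
    exact h.toUK.xU_ne (by rw [← two_mul]; exact mul_ne_zero h.toUK.two s0) this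

theorem rrtx {s : K} (hs : star s = -s) (s0 : s ≠ 0) : rr (tt φ * φ (xU s hs)) = 0 := by
  obtain ⟨k1, k2⟩ := h.zx hs s0 tt_Zt (mem_zpowers _)
  rw [show tt φ * φ (xU s hs) = φ (tU K * xU s hs) from (map_mul φ _ _).symm] at k1 k2 ⊢
  rw [h.rr_eq k1 k2 (by simp [det_dg, det_xp]) (fun x : Empty => x.elim) (fun x => x.elim) ?_]
  · simp
  · intro a b c
    simp only [Subgroup.coe_mul, mul_ent]
    simp [s0]
    rintro e - - k rfl
    rcases mul_self_eq_one_iff.1 (show a * a = 1 by linear_combination k) with rfl | rfl <;> simp at e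
    exacts [h.toUK.two (by linear_combination e), h.toUK.two (by linear_combination -e)]

theorem sq_ne {x : G} (hx : tt φ ∈ zpowers x) (k : x ≠ tt φ) : x * x ≠ 1 := fun e =>
  ((CA.GW.BA.mem_zpowers_inv e).1 hx).elim h.toUK.t1 k.symm

theorem rrZ {s : K} (hs : star s = -s) (s0 : s ≠ 0) {z : G} (hz : z ∈ Zt φ) (ht : tt φ ∈ zpowers z) (k : z ≠ tt φ) :
    rr z = 0 ∧ rr (z * φ (xU s hs)) = 0 := by
  have a : ∀ g : U2 K, dt g.1 = 1 → φ g ≠ z := fun g d e => (h.toUK.SL_Z d (e ▸ hz)).elim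
    (fun l => h.sq_ne ht k (by rw [← e, l, one_mul])) fun l => k (e ▸ l)
  exact ⟨h.rr_zero ht (h.sq_ne ht k) a, h.rr_zero (h.zx hs s0 hz ht).1 (h.zx hs s0 hz ht).2 fun g d e =>
    a (g * (xU s hs)⁻¹) (by simp [d, det_xp]) (by rw [map_mul, map_inv, e]; group)⟩

open Classical in
theorem rrY {x : G} (hx : x ∈ Yt φ) (ht : tt φ ∈ zpowers x) (k : x ∉ Zt φ) :
    rr x = if x ∈ Y1t φ then q - 1 else 0 := by
  have x2 := h.sq_ne ht fun e => k (e ▸ tt_Zt)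
  split_ifs with l
  · obtain ⟨s, hs, rfl⟩ := mem_Y1t'.1 l
    have hs' : star (s : K) = s := congrArg Units.val hs
    have ne : (s : K) - (s : K)⁻¹ ≠ 0 := fun e => k (h.toUK.mem_Zt.2 (mem_cen.2 ⟨rfl, rfl, by
      simpa [hs'] using sub_eq_zero.1 e⟩))
    rw [h.rr_eq ht x2 (by rw [det_dU, hs, mul_inv_cancel]) (fun x : {a : Kˣ // star a = a} => (0, x.1, (x.1 : K)⁻¹))
      (fun a b e => Subtype.ext (Units.ext (congrArg (·.2.1) e))) fun a b c => ?_, card_real h.fq]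
    simp only [dU_val, dg_val, Set.mem_range, Prod.mk.injEq]
    simp [ne, hs']
    refine ⟨?_, ?_⟩
    · rintro ⟨rfl, x, rfl, hx, rfl⟩
      have : star (x : K) = x := congrArg Units.val hx
      simp [this]
    rintro ⟨⟨-, n, -⟩, e, rfl⟩
    rw [mul_zero, zero_add] at e
    exact ⟨rfl, Units.mk0 b (left_ne_zero_of_mul_eq_one e), rfl, Units.ext n, (eq_inv_of_mul_eq_one_right e).symm⟩
  · exact h.rr_zero ht x2 fun g d e => l ⟨g, ⟨h.toUK.mem_Yt.1 (e ▸ hx), d⟩, e⟩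

open Classical in
theorem rrT {x : G} (hx : x ∈ Tt φ) (ht : tt φ ∈ zpowers x) (k : x ∉ Zt φ) :
    rr x = if x ∈ Ht φ then q + 1 else 0 := by
  have x2 := h.sq_ne ht fun e => k (e ▸ tt_Zt)
  have h2 := h.toUK.two
  split_ifs with l
  · obtain ⟨y, ⟨y1, y2⟩, rfl⟩ := l
    have y1 : y.1 ∈ nsT 1 := y1
    have ne := nsT_ne y1 (h.toUK.mem_Zt.not.1 k)
    rw [h.rr_eq ht x2 y2 (fun x : {x : K // x * star x = -1} =>
        ((x.1 - star x.1) / 2, (x.1 + star x.1) / 2, -((x.1 + star x.1) / 2)))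
      (fun a b e => ?_) fun a b c => ⟨?_, fun ⟨⟨n1, n2, _⟩, e1, e2⟩ => ?_⟩, h.fq.card_norm_eq (by simp) (by simp)]
    · obtain ⟨e1, e2⟩ : _ ∧ _ := by simpa [h2] using e
      exact Subtype.ext (mul_left_cancel₀ h2 (by linear_combination e1 + e2))
    · rintro ⟨x, e⟩
      obtain ⟨rfl, rfl, rfl⟩ : _ ∧ _ ∧ _ := by simpa only [Prod.mk.injEq] using e
      refine ⟨⟨by simp; ring, by simp; ring, by simp; ring⟩, ?_, by rw [y1.1, y1.2]; ring⟩
      field_simp; linear_combination -4 * x.2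
    · rw [y1.1, y1.2] at e2
      obtain rfl : c = -b := mul_left_cancel₀ ne (by linear_combination e2)
      refine ⟨⟨a + b, by simp [n1, n2]; linear_combination -e1⟩, ?_⟩
      simp [n1, n2]
      constructor <;> field_simp <;> ring
  · exact h.rr_zero ht x2 fun g d e => l ⟨g, ⟨h.toUK.mem_Tt.1 (e ▸ hx), d⟩, e⟩

end BU0

theorem extT_U (h : UK φ q) {w : U2 K} (hw : IsW w) (θ : Tt φ →* ℂˣ)
    (hθ : ∀ y y' : Tt φ, (y' : G) = φ w * y * (φ w)⁻¹ → θ y' = θ y) :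
    ∃ μ : φ.range →* ℂˣ, ∀ (y : Tt φ) (g : φ.range), (g : G) = y → μ g = θ y := by
  have h2 := h.two
  have dT : ∀ g : U2 K, tg h2 (dt g.1) 1 ∈ U2 K := fun g => tg_U2.2 ⟨det_norm g.2, by simp⟩
  let D : U2 K →* U2 K := MonoidHom.mk' (fun g => ⟨_, dT g⟩) fun a b => Subtype.ext (by simp [tg_mul])
  let ψ : U2 K →* ℂˣ := θ.comp ((φ.comp D).codRestrict _ fun g => mk_im ⟨_, dT g⟩ (tg_nsT _ _))
  have s : ∀ a d (k : tg h2 a d ∈ U2 K), ψ ⟨_, k⟩ = θ ⟨φ ⟨_, k⟩, mk_im _ (tg_nsT _ _)⟩ := fun a d k => by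
    obtain ⟨na, nd⟩ := tg_U2.1 k
    have k1 : tg h2 a 1 ∈ U2 K := tg_U2.2 ⟨na, by simp⟩
    have k2 : tg h2 d 1 ∈ U2 K := tg_U2.2 ⟨nd, by simp⟩
    have k3 : tg h2 1 d ∈ U2 K := tg_U2.2 ⟨by simp, nd⟩
    have := hθ ⟨φ ⟨_, k3⟩, mk_im _ (tg_nsT _ _)⟩ ⟨φ ⟨_, k2⟩, mk_im _ (tg_nsT _ _)⟩ (by
      rw [cj]; exact congrArg φ (Subtype.ext (hw.tg 1 d).symm))
    trans θ (⟨φ ⟨_, k1⟩, mk_im _ (tg_nsT _ _)⟩ * ⟨φ ⟨_, k2⟩, mk_im _ (tg_nsT _ _)⟩)
    · exact congrArg θ (Subtype.ext ((congrArg φ (Subtype.ext (by simp [D, tg_mul, det_tg]))).trans (map_mul φ _ _)))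
    · rw [map_mul, this, ← map_mul]
      exact congrArg θ (Subtype.ext ((map_mul φ _ _).symm.trans (congrArg φ (Subtype.ext (by simp [tg_mul])))))
  obtain ⟨μ, hμ⟩ := exists_lin (φ := φ) ψ fun g k => by
    obtain ⟨a, e⟩ := mem_cen'.1 (h.kerc g k)
    rw [← tg_self (h2 := h2)] at e
    obtain ⟨g, hg⟩ := g
    obtain rfl : g = _ := e
    exact (s a a hg).trans ((congrArg θ (Subtype.ext k)).trans (map_one θ))
  refine ⟨μ, fun ⟨y, hy⟩ g k => ?_⟩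
  obtain ⟨a, d, l, rfl⟩ := (mem_Tt' h2).1 hy
  rw [show g = φ.rangeRestrict ⟨_, l⟩ from Subtype.ext k, hμ]
  exact s a d l

theorem BU0.cn [Fintype G] (h : BU0 φ q) {w : U2 K} (hw : IsW w) {s : K} (hs : star s = -s)
    (s0 : s ≠ 0) : ∃ lam θ1 θ2, CN (-q) q φ.range (Zt φ) (Tt φ) (Yt φ) (Ht φ) (Y1t φ) (tt φ) (φ w)
      (uu φ) (φ (xU s hs)) lam θ1 θ2 := by
  have k := h.toUK
  have c := k.cs hw hs s0
  have h2 := k.two
  have := h.fq.finite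
  obtain ⟨l, hl⟩ := exists_theta Kˣ
  have := k.cycY
  obtain ⟨θ, hθ⟩ := exists_theta (Yt φ)
  have l1 : l (-1) = -1 := neg_of_sq (by rw [← map_mul]; simp) fun a => k.neg_ne (by
    have := odd_of_pow (a := (-1 : Kˣ)) odd_one (by simpa using (hl _).1 a)
    simpa using (this.neg_one_pow (α := Kˣ)).symm.trans (pow_orderOf_eq_one _))
  let D : U2 K →* Kˣ := (dt).comp (U2 K).subtype
  have ko : ∀ g, φ g = 1 → Odd (orderOf (D g)) := fun g a => (k.ker_odd a).of_dvd_nat (orderOf_map_dvd _ _)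
  obtain ⟨lam, hlam⟩ := exists_lin (φ := φ) (l.comp D) fun g a => (hl _).2 (ko g a)
  replace hlam : ∀ g, lam (φ.rangeRestrict g) = l (dt g.1) := hlam
  let tY : Yt φ := ⟨tt φ, c.ZT tt_Zt⟩
  have θt : θ tY = -1 := neg_of_sq (by rw [← map_mul, ← map_one θ]; exact congrArg θ (Subtype.ext tt_mul)) fun a => by
    have := (hθ _).1 a
    rw [← orderOf_coe, orderOf_eq_prime (show tt φ ^ 2 = 1 by rw [sq, tt_mul]) k.t1] at this
    exact absurd this (by decide)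
  have ne : (-1 : ℂˣ) ≠ 1 := by simp
  let Y : Kˣ →* Yt φ := (φ.comp dUH).codRestrict _ fun a => mem_Yt'.2 ⟨a, rfl⟩
  have YU : ∀ y, (Y (star y)⁻¹ : G) = uu φ * Y y * (uu φ)⁻¹ := fun y =>
    show φ (dU _) = uu φ * φ (dU y) * (uu φ)⁻¹ by rw [uu, cj, u_dU]
  have Yt : Y (-1) = tY := Subtype.ext (congrArg φ dU_neg)
  obtain ⟨x1, h1⟩ := exists_N h.fq (star_neg_one (K := K))
  have h1 : θ (Y (star x1)⁻¹) = -1 * θ (Y x1) := by
    rw [← θt, ← Yt, ← map_mul, ← map_mul, ← inv_neg_one, ← h1]; congr 2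
    rw [mul_inv, mul_comm x1⁻¹, inv_mul_cancel_right]
  obtain ⟨y, hy⟩ := hilb90 h.fq (d := -1) (by simp)
  obtain ⟨i, hi⟩ := k.exists_i
  have P : Pr θ := fun g a => (hθ g).2 a
  have dT : ∀ g : U2 K, tg h2 (dt g.1) 1 ∈ U2 K := fun g => tg_U2.2 ⟨det_norm g.2, by simp⟩
  have q3 := k.q3
  refine ⟨lam, θ, θ⁻¹, ⟨_, _, .inr ⟨rfl, c⟩⟩, k.odd, tt_mul, k.t1, tt_Zt, uu_Tt, k.w_u hw, fun _ => k.invY,
    fun _ => k.invT, fun i a b d => let ⟨x, _, l⟩ := k.inv_cj (h.sur i) a b d; ⟨x, l⟩,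
    fun x a => k.cent_u ▸ ⟨h.sur x, mem_centralizer_singleton_iff.2 (mul_inv_eq_iff_eq_mul.1 a)⟩,
    fun μ g a => by rw [show g = ⟨_, c.xC⟩ from Subtype.ext a, c.lin_x], fun μ a => ?_,
    fun μ a => ?_, ?_, ?_, extT_U k hw, k.extY, im_mono inf_le_left, by rw [k.kH, abs_of_nonpos (by omega)]; omega,
    mk_im (tU K) ⟨cen_le_nsT (dg_cen (-1)), show dt (dg (-1) (-1)) = 1 by simp [det_dg]⟩, ?_, ?_,
    im_mono inf_le_left, by rw [k.kY1, abs_of_nonpos (by omega)]; omega,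
    mem_Y1t'.2 ⟨-1, star_neg_one, congrArg φ dU_neg⟩, ?_, by
      rw [h.rrt, Nat.cast_mul, Nat.cast_sub (by omega)]; push_cast; ring, by rw [h.rrtx hs s0]; simp,
    fun _ => h.rrZ hs s0, fun _ a b l => by rw [h.rrT a b l, k.kH], fun _ a b l => by rw [h.rrY a b l, k.kY1], ?_, ?_, P,
    fun g a => by simp [P g a], ⟨_, _, YU x1, by rw [h1]; simp⟩,
    ⟨_, _, YU x1, by rw [MonoidHom.inv_apply, MonoidHom.inv_apply, h1]; simp⟩, fun a => ne ?_,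
    ⟨_, _, YU y, fun a => ?_⟩, fun y a => by rw [show y = tY from Subtype.ext a, θt], ?_⟩
  · ext g
    obtain ⟨g, rfl⟩ := φ.rangeRestrict_surjective g
    rw [k.lin_eq (g' := ⟨_, dT g⟩) (by rw [det_tg, mul_one]), a _ (mk_im ⟨_, dT g⟩ (tg_nsT _ _))]; rfl
  · ext g
    obtain ⟨g, rfl⟩ := φ.rangeRestrict_surjective g
    obtain ⟨y, hy⟩ := hilb90 h.fq (det_norm g.2)
    rw [k.lin_eq (g' := dU y) (by rw [det_dU, hy]), a _ (mem_Yt'.2 ⟨y, rfl⟩)]; rfl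
  · rintro μ ⟨_, hg⟩ ⟨a, ⟨-, b⟩, rfl⟩
    exact k.lin b
  · rintro μ ⟨_, hg⟩ ⟨a, ⟨-, b⟩, rfl⟩
    exact k.lin b
  · rintro _ ⟨a, ⟨-, b⟩, rfl⟩
    exact k.SL_Z b
  · intro g hg b
    obtain ⟨a, ha, rfl⟩ := (mem_Ht' h2).1 hg
    have d : dt (tg h2 a a⁻¹) = 1 := by rw [det_tg, mul_inv_cancel]
    have b := congrArg Subtype.val (k.eq_of_det (g := ⟨_, ha⟩ * ⟨_, ha⟩) (g' := 1) (by rw [map_mul, map_one]; exact b)
      (by simp [d]))
    rw [Subgroup.coe_mul, tg_mul, OneMemClass.coe_one, ← tg_one (h2 := h2)] at b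
    refine k.SL_Z d (k.mem_Zt.2 (tg_cen.2 (eq_inv_of_mul_eq_one_left (tg_inj b).1)))
  · rintro _ ⟨a, ⟨-, b⟩, rfl⟩
    exact k.SL_Z b
  · intro g a
    obtain ⟨g, rfl⟩ := φ.rangeRestrict_surjective g
    rw [hlam, hl]
    refine odd_of_pow a ?_
    have := ko (g ^ orderOf (φ.rangeRestrict g)) (by
        rw [map_pow]; exact congrArg Subtype.val (pow_orderOf_eq_one (φ.rangeRestrict g)))
    rwa [map_pow] at this
  · intro g a
    rw [show g = φ.rangeRestrict (uU K) from Subtype.ext a, hlam, uU_val, det_ww, l1]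
  · rw [← θt, ← Yt, ← hi, map_mul, map_mul]; nth_rewrite 1 [a]; simp
  · exact ne (by rw [← θt, ← Yt, ← hy, map_mul, map_mul, a]; simp)
  · rcases mul_self_eq_mul_self_iff.1 (show star (i : K) * star (i : K) = i * i by
      rw [← star_mul, ← Units.val_mul, hi]; simp) with e | e
    · refine .inr fun g hg => ?_
      obtain ⟨a, d, ha, rfl⟩ := (mem_Tt' h2).1 hg
      obtain ⟨na, nd⟩ := tg_U2.1 ha
      obtain ⟨n, o, hn⟩ := k.odd_or hi (Units.ext e)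
      have : ∀ (g : U2 K) (a d : Kˣ), g.1 = tg h2 a d → a ^ n = 1 → d ^ n = 1 → Odd (orderOf (φ g)) :=
        fun g a d e p q => o.of_dvd_nat (orderOf_dvd_of_pow_eq_one (by
          rw [← map_pow, show g ^ n = 1 from Subtype.ext (by rw [Subgroup.coe_pow, e, tg_pow, p, q, tg_one]; rfl),
            map_one]))
      rw [k.tu_eq, tt, uu, ← map_mul, ← map_mul, ← map_mul]
      rcases hn a na with p | p <;> rcases hn d nd with q | q
      exacts [.inl (this _ _ _ rfl p q),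
        .inr (.inr (.inl (this _ _ _ (by rw [Subgroup.coe_mul, uU_val, ← tg_ww (h2 := h2), tg_mul, one_mul]) p q))),
        .inr (.inr (.inr (this _ _ _ (by rw [Subgroup.coe_mul, tg_mul, one_mul]) p q))),
        .inr (.inl (this _ _ _ (by rw [Subgroup.coe_mul, tU_val, ← tg_self (h2 := h2), tg_mul]) p q))]
    · refine .inl fun a => ne ?_
      have n : tg h2 i 1 ∈ U2 K := tg_U2.2 ⟨by rw [e, mul_neg, ← Units.val_mul, hi]; simp, by simp⟩
      have := DFunLike.congr_fun a (φ.rangeRestrict ⟨_, n⟩)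
      rwa [MonoidHom.mul_apply, hlam, det_tg, mul_one, ← map_mul, hi, l1] at this


theorem nd [Fintype G] (h : UK φ q) (hs : Function.Surjective φ) :
    ∃ d : ND G, d.e = -q ∧ d.q = q ∧ d.t = tt φ ∧ d.u = uu φ := by
  obtain ⟨w, hw⟩ := exists_W h.fq h.two
  obtain ⟨s, s0, hs'⟩ := h.exists_im
  obtain ⟨lam, θ1, θ2, k⟩ := BU0.cn ⟨h, hs⟩ hw hs' s0
  exact k.nd (MonoidHom.range_eq_top.2 hs)

end CA.Abg.Uni
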